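import Cfsg.Agent.CosetCert.HeSp44.CheckLog
import Cfsg.Agent.CosetCert.HeSp44.CheckTable
import Cfsg.Agent.CosetCert.HeSp44.CheckRels
import Cfsg.Agent.CosetCert.HeSp44.Orbit0Data
import Cfsg.Agent.CosetCert.HeSp44.Orbit1Data
import Cfsg.Agent.CosetCert.HeSp44.Orbit2Data
import Cfsg.Agent.CosetCert.HeSp44.Orbit3Data

/-! Generated: the index and the suborbits. -/

namespace Cfsg.Agent.CosetCert.HeSp44

theorem valid : data.Valid where
  n_pos := by decide +kernel
  root := by decide +kernel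
  log := log_ok
  coset := coset_ok
  rels := rels_ok
  powers_eq := by decide +kernel
  pw := by decide +kernel
  letters := by decide +kernel
  K_small := by decide +kernel
  nR_le := by decide +kernel
  subs := by decide +kernel
  iv_iv := fun x hx => ⟨rfl, hx⟩
  iv_big := fun _ _ => rfl

theorem spells : Data.Spells data (Cfsg.Spor.coxRelators Cfsg.Spor.He.edges ∪ {r | r ∈ Cfsg.Spor.He.extra})
    subGens enc dec (coxWords genList Cfsg.Spor.He.edges Cfsg.Spor.He.extra) := by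
  apply spells_cox data genList
  · intro z; cases z <;> decide
  · intro z; cases z <;> exact ⟨by decide +kernel, by decide +kernel, rfl⟩
  · show ∀ x, x < 7 → _
    intro x hx
    interval_cases x <;> exact ⟨by decide +kernel, by decide +kernel, rfl⟩
  · intro z; cases z <;> decide
  · decide +kernel
  · decide +kernel

theorem index_val : (Data.sub (Cfsg.Spor.coxRelators Cfsg.Spor.He.edges ∪ {r | r ∈ Cfsg.Spor.He.extra})
    subGens).index = 2058 :=
  Data.index_eq valid spells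

theorem suborbit0 : ∃ q : Cfsg.Spor.He ⧸ Data.sub (Cfsg.Spor.coxRelators Cfsg.Spor.He.edges ∪ {r | r ∈ Cfsg.Spor.He.extra}) subGens,
    (MulAction.orbit (Data.sub (Cfsg.Spor.coxRelators Cfsg.Spor.He.edges ∪ {r | r ∈ Cfsg.Spor.He.extra}) subGens) q).ncard = 136 := by
  obtain ⟨q, hq⟩ := Data.exists_orbit valid spells orbSet0 46 (get48 orbStore0) orb0_root orb0_ok
  exact ⟨q, hq.trans orb0_count⟩

theorem suborbit1 : ∃ q : Cfsg.Spor.He ⧸ Data.sub (Cfsg.Spor.coxRelators Cfsg.Spor.He.edges ∪ {r | r ∈ Cfsg.Spor.He.extra}) subGens,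
    (MulAction.orbit (Data.sub (Cfsg.Spor.coxRelators Cfsg.Spor.He.edges ∪ {r | r ∈ Cfsg.Spor.He.extra}) subGens) q).ncard = 136 := by
  obtain ⟨q, hq⟩ := Data.exists_orbit valid spells orbSet1 65 (get48 orbStore1) orb1_root orb1_ok
  exact ⟨q, hq.trans orb1_count⟩

theorem suborbit2 : ∃ q : Cfsg.Spor.He ⧸ Data.sub (Cfsg.Spor.coxRelators Cfsg.Spor.He.edges ∪ {r | r ∈ Cfsg.Spor.He.extra}) subGens,
    (MulAction.orbit (Data.sub (Cfsg.Spor.coxRelators Cfsg.Spor.He.edges ∪ {r | r ∈ Cfsg.Spor.He.extra}) subGens) q).ncard = 425 := by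
  obtain ⟨q, hq⟩ := Data.exists_orbit valid spells orbSet2 2 (get48 orbStore2) orb2_root orb2_ok
  exact ⟨q, hq.trans orb2_count⟩

theorem suborbit3 : ∃ q : Cfsg.Spor.He ⧸ Data.sub (Cfsg.Spor.coxRelators Cfsg.Spor.He.edges ∪ {r | r ∈ Cfsg.Spor.He.extra}) subGens,
    (MulAction.orbit (Data.sub (Cfsg.Spor.coxRelators Cfsg.Spor.He.edges ∪ {r | r ∈ Cfsg.Spor.He.extra}) subGens) q).ncard = 1360 := by
  obtain ⟨q, hq⟩ := Data.exists_orbit valid spells orbSet3 1 (get48 orbStore3) orb3_root orb3_ok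
  exact ⟨q, hq.trans orb3_count⟩

end Cfsg.Agent.CosetCert.HeSp44
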